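import Mathlib
import Cfsg.Agent.Lib.Cores.Basic

set_option autoImplicit false
set_option linter.unusedSectionVars false

/-!
The set of `g` such that the `p`-subgroup `H` is subnormal in `⟨H, g⟩`, and Casolo's count of it.

`w p g R` is the Moebius weight of `R` in the poset of `g`-invariant `p`-subgroups above it; it
only depends on the interval above `R` inside `N(R)/R`, and its sum geSet `g ∈ N(R)` vanishes
unless `R` is a Sylow subgroup.
-/

open scoped Pointwise

namespace Cfsg.Agent.Lib.SubnormSet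

universe u
variable {G : Type u} [Group G] [Finite G] {p : ℕ}

/-- Some `g`-invariant `p`-subgroup contains `H`. -/
def InS (p : ℕ) (H : Subgroup G) (g : G) : Prop :=
  ∃ R : Subgroup G, IsPGroup p R ∧ H ≤ R ∧ g ∈ Subgroup.normalizer (R : Set G)

theorem isSubnormal_of_isNilpotent {L : Type*} [Group L] [Finite L] [Group.IsNilpotent L]
    (H : Subgroup L) : H.IsSubnormal := by
  induction H using WellFoundedGT.induction with
  | _ H ih =>
    by_cases hH : H = ⊤
    · rw [hH]; exact Subgroup.IsSubnormal.top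
    · exact Subgroup.IsSubnormal.step H _ Subgroup.le_normalizer
        (ih _ (Group.normalizerCondition_of_isNilpotent H (lt_top_iff_ne_top.2 hH)))
        Subgroup.normal_in_normalizer

theorem isSubnormal_sup_zpowers_iff [Fact p.Prime] {H : Subgroup G} (hH : IsPGroup p H) (g : G) :
    (H.subgroupOf (H ⊔ Subgroup.zpowers g)).IsSubnormal ↔ InS p H g := by
  set L := H ⊔ Subgroup.zpowers g with hL
  have hgL : g ∈ L := Subgroup.mem_sup_right (Subgroup.mem_zpowers g)
  constructor
  · intro hs
    have hle : H.subgroupOf L ≤ Cfsg.pCore p L := Cores.IsSubnormal.le_pCore hs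
      (hH.of_equiv (Subgroup.subgroupOfEquivOfLe (le_sup_left : H ≤ L)).symm)
    refine ⟨(Cfsg.pCore p L).map L.subtype, (Cores.pCore_isPGroup p).map _,
      fun x hx => ⟨⟨x, Subgroup.mem_sup_left hx⟩, hle hx, rfl⟩, ?_⟩
    rw [Subgroup.mem_normalizer_iff]
    intro x
    constructor
    · rintro ⟨y, hy, rfl⟩
      exact ⟨⟨g, hgL⟩ * y * ⟨g, hgL⟩⁻¹, Subgroup.Normal.conj_mem inferInstance y hy _, rfl⟩
    · rintro ⟨y, hy, hyx⟩
      refine ⟨⟨g, hgL⟩⁻¹ * y * ⟨g, hgL⟩⁻¹⁻¹, Subgroup.Normal.conj_mem inferInstance y hy _, ?_⟩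
      simp only [Subgroup.coe_subtype] at hyx
      simp only [Subgroup.coe_subtype, Subgroup.coe_mul, Subgroup.coe_inv, hyx]
      group
  · rintro ⟨R, hR, hHR, hg⟩
    have hLN : L ≤ Subgroup.normalizer (R : Set G) :=
      sup_le (hHR.trans Subgroup.le_normalizer) (Subgroup.zpowers_le.2 hg)
    haveI : (R.subgroupOf L).Normal := Subgroup.normal_subgroupOf_of_le_normalizer hLN
    have hp : IsPGroup p (R.subgroupOf L) := hR.comap_subtype
    haveI := hp.isNilpotent
    exact Subgroup.IsSubnormal.trans (H := H.subgroupOf L) (K := R.subgroupOf L) (Subgroup.comap_mono hHR)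
      (isSubnormal_of_isNilpotent ((H.subgroupOf L).subgroupOf (R.subgroupOf L)))
      (Subgroup.Normal.isSubnormal (H := R.subgroupOf L) inferInstance)

/-- The `g`-invariant `p`-subgroups strictly above `R`. -/
noncomputable def above (p : ℕ) (g : G) (R : Subgroup G) : Finset (Subgroup G) :=
  (Set.toFinite {T : Subgroup G | R < T ∧ IsPGroup p T ∧ g ∈ Subgroup.normalizer (T : Set G)}).toFinset

theorem mem_above {g : G} {R T : Subgroup G} :
    T ∈ above p g R ↔ R < T ∧ IsPGroup p T ∧ g ∈ Subgroup.normalizer (T : Set G) := by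
  simp [above]

theorem card_lt {R T : Subgroup G} (h : R < T) : Nat.card R < Nat.card T :=
  lt_of_not_ge fun h' => h.ne (Subgroup.eq_of_le_of_card_ge h.le h')

/-- The Moebius weight. -/
noncomputable def w (p : ℕ) (g : G) (R : Subgroup G) : ℤ :=
  1 - ∑ T ∈ (above p g R).attach, w p g T.1
termination_by Nat.card G - Nat.card R
decreasing_by
  have h := card_lt (mem_above.1 T.2).1
  have h' := Subgroup.card_le_card_group T.1
  omega

theorem w_eq (g : G) (R : Subgroup G) : w p g R = 1 - ∑ T ∈ above p g R, w p g T := by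
  rw [w, Finset.sum_attach (above p g R) (fun T => w p g T)]

/-- The `g`-invariant `p`-subgroups containing `H`. -/
noncomputable def geSet (p : ℕ) (g : G) (H : Subgroup G) : Finset (Subgroup G) :=
  (Set.toFinite {T : Subgroup G | H ≤ T ∧ IsPGroup p T ∧ g ∈ Subgroup.normalizer (T : Set G)}).toFinset

theorem mem_geSet {g : G} {H T : Subgroup G} :
    T ∈ geSet p g H ↔ H ≤ T ∧ IsPGroup p T ∧ g ∈ Subgroup.normalizer (T : Set G) := by
  simp [geSet]

theorem sum_geSet_self {g : G} {R : Subgroup G} (hR : IsPGroup p R)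
    (hg : g ∈ Subgroup.normalizer (R : Set G)) : ∑ T ∈ geSet p g R, w p g T = 1 := by
  classical
  have h : geSet p g R = insert R (above p g R) := by
    ext T
    rw [Finset.mem_insert, mem_geSet, mem_above]
    constructor
    · rintro ⟨h1, h2⟩
      rcases h1.lt_or_eq with h | h
      · exact Or.inr ⟨h, h2⟩
      · exact Or.inl h.symm
    · rintro (rfl | ⟨h1, h2⟩)
      · exact ⟨le_rfl, hR, hg⟩
      · exact ⟨h1.le, h2⟩
  rw [h, Finset.sum_insert (fun h => lt_irrefl _ (mem_above.1 h).1), w_eq g R]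
  ring

theorem sum_geSet {H : Subgroup G} {g : G} [Decidable (InS p H g)] :
    ∑ T ∈ geSet p g H, w p g T = if InS p H g then 1 else 0 := by
  by_cases h : InS p H g
  · rw [if_pos h]
    obtain ⟨R0, hR0, hHR0, hg0⟩ := h
    set K := sInf {T : Subgroup G | H ≤ T ∧ IsPGroup p T ∧ g ∈ Subgroup.normalizer (T : Set G)}
      with hK
    have hHK : H ≤ K := le_sInf fun T hT => hT.1
    have hKp : IsPGroup p K := hR0.to_le (sInf_le ⟨hHR0, hR0, hg0⟩)
    have hgK : g ∈ Subgroup.normalizer (K : Set G) := by
      rw [Subgroup.mem_normalizer_iff]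
      intro x
      simp only [hK, Subgroup.mem_sInf, Set.mem_ofPred_eq]
      exact ⟨fun hx T hT => (Subgroup.mem_normalizer_iff.1 hT.2.2 x).1 (hx T hT),
        fun hx T hT => (Subgroup.mem_normalizer_iff.1 hT.2.2 x).2 (hx T hT)⟩
    have : geSet p g H = geSet p g K := by
      ext T
      rw [mem_geSet, mem_geSet]
      exact ⟨fun hT => ⟨sInf_le hT, hT.2⟩, fun hT => ⟨hHK.trans hT.1, hT.2⟩⟩
    rw [this, sum_geSet_self hKp hgK]
  · rw [if_neg h]
    refine Finset.sum_eq_zero fun T hT => absurd ?_ h
    obtain ⟨h1, h2, h3⟩ := mem_geSet.1 hT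
    exact ⟨T, h2, h1, h3⟩

/-- The total weight of `R`. -/
noncomputable def E (p : ℕ) (R : Subgroup G) : ℤ :=
  ∑ᶠ g : Subgroup.normalizer (R : Set G), w p (g : G) R

theorem E_eq [Fintype G] [DecidableEq G] (R : Subgroup G) [DecidablePred (· ∈ Subgroup.normalizer (R : Set G))] :
    E p R = ∑ g : G, if g ∈ Subgroup.normalizer (R : Set G) then w p g R else 0 := by
  rw [E, finsum_eq_sum_of_fintype, ← Finset.sum_filter]
  exact (Finset.sum_subtype (Finset.univ.filter (· ∈ Subgroup.normalizer (R : Set G))) (by simp)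
    (fun g => w p g R)).symm

theorem card_inS (H : Subgroup G) :
    (Nat.card {g : G // InS p H g} : ℤ) =
      ∑ᶠ T ∈ {T : Subgroup G | H ≤ T ∧ IsPGroup p T}, E p T := by
  classical
  haveI := Fintype.ofFinite G
  haveI := Fintype.ofFinite (Subgroup G)
  have h1 : (Nat.card {g : G // InS p H g} : ℤ) = ∑ g : G, ∑ T ∈ geSet p g H, w p g T := by
    rw [Finset.sum_congr rfl (fun g _ => sum_geSet (H := H) (g := g)), Finset.sum_boole,
      Nat.card_eq_fintype_card, Fintype.card_subtype]
  rw [h1, finsum_mem_eq_finite_toFinset_sum _ (Set.toFinite _)]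
  simp only [E_eq]
  rw [Finset.sum_comm (s := (Set.toFinite {T : Subgroup G | H ≤ T ∧ IsPGroup p T}).toFinset)]
  refine Finset.sum_congr rfl fun g _ => ?_
  rw [← Finset.sum_filter]
  refine Finset.sum_congr ?_ fun T _ => rfl
  ext T
  simp [mem_geSet, and_assoc]

theorem normalizer_bot_eq_top (L : Type*) [Group L] :
    Subgroup.normalizer ((⊥ : Subgroup L) : Set L) = ⊤ := Subgroup.normalizer_eq_top ⊥

theorem mem_normalizer_subgroupOf {N X : Subgroup G} {g : G} (hgN : g ∈ N)
    (hg : g ∈ Subgroup.normalizer (X : Set G)) :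
    (⟨g, hgN⟩ : N) ∈ Subgroup.normalizer ((X.subgroupOf N : Subgroup N) : Set N) := by
  rw [Subgroup.mem_normalizer_iff]
  intro y
  simpa [Subgroup.mem_subgroupOf] using Subgroup.mem_normalizer_iff.1 hg (y : G)

theorem mem_normalizer_inf {g : G} {A B : Subgroup G}
    (hA : g ∈ Subgroup.normalizer (A : Set G)) (hB : g ∈ Subgroup.normalizer (B : Set G)) :
    g ∈ Subgroup.normalizer ((A ⊓ B : Subgroup G) : Set G) := by
  rw [Subgroup.mem_normalizer_iff]
  intro x
  simp only [Subgroup.mem_inf, Subgroup.mem_normalizer_iff.1 hA x, Subgroup.mem_normalizer_iff.1 hB x]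

theorem lt_inf_normalizer [Fact p.Prime] {T X : Subgroup G} (h : T < X) (hX : IsPGroup p X) :
    T < X ⊓ Subgroup.normalizer (T : Set G) := by
  haveI := hX.isNilpotent
  refine lt_of_le_of_ne (le_inf h.le Subgroup.le_normalizer) fun he => ?_
  have hlt : T.subgroupOf X < ⊤ := by
    rw [lt_top_iff_ne_top, Ne, Subgroup.subgroupOf_eq_top]
    exact h.not_ge
  obtain ⟨x, hx, hxT⟩ := SetLike.exists_of_lt (Group.normalizerCondition_of_isNilpotent _ hlt)
  apply hxT
  rw [Subgroup.mem_subgroupOf, he]
  refine ⟨x.2, Subgroup.mem_normalizer_iff.2 fun y => ?_⟩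
  have hx' := Subgroup.mem_normalizer_iff.1 hx
  constructor
  · intro hy
    simpa [Subgroup.mem_subgroupOf] using (hx' ⟨y, h.le hy⟩).1 hy
  · intro hy
    have hyX : y ∈ X := by
      have h1 := mul_mem (mul_mem (X.inv_mem x.2) (h.le hy)) x.2
      simpa [mul_assoc] using h1
    simpa [Subgroup.mem_subgroupOf] using (hx' ⟨y, hyX⟩).2 (by simpa [Subgroup.mem_subgroupOf] using hy)

section Reduction

variable (T : Subgroup G)

/-- The group `N(T)/T`. -/
abbrev Bar := (Subgroup.normalizer (T : Set G)) ⧸ T.subgroupOf (Subgroup.normalizer (T : Set G))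

/-- The image in `N(T)/T` of a subgroup. -/
noncomputable def proj (X : Subgroup G) : Subgroup (Bar T) :=
  (X.subgroupOf (Subgroup.normalizer (T : Set G))).map (QuotientGroup.mk' _)

/-- The preimage in `G` of a subgroup of `N(T)/T`. -/
noncomputable def lift (S : Subgroup (Bar T)) : Subgroup G :=
  (S.comap (QuotientGroup.mk' _)).map (Subgroup.normalizer (T : Set G)).subtype

theorem le_lift (S : Subgroup (Bar T)) : T ≤ lift T S := by
  intro x hx
  refine ⟨⟨x, Subgroup.le_normalizer hx⟩, ?_, rfl⟩
  simp only [SetLike.mem_coe, Subgroup.mem_comap, QuotientGroup.mk'_apply]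
  rw [(QuotientGroup.eq_one_iff (N := T.subgroupOf _) _).2 (Subgroup.mem_subgroupOf.2 hx)]
  exact one_mem S

theorem le_proj_iff {X : Subgroup G} (hX : T ≤ X) (S : Subgroup (Bar T)) :
    S ≤ proj T X ↔ lift T S ≤ X := by
  rw [proj, lift, Subgroup.map_le_iff_le_comap,
    ← Subgroup.comap_le_comap_of_surjective (QuotientGroup.mk'_surjective _),
    Subgroup.comap_map_eq_self]
  · exact Iff.rfl
  · rw [QuotientGroup.ker_mk']
    exact Subgroup.comap_mono hX

theorem isPGroup_lift [Fact p.Prime] (hT : IsPGroup p T) {S : Subgroup (Bar T)} (hS : IsPGroup p S) :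
    IsPGroup p (lift T S) := by
  refine IsPGroup.map (hS.comap_of_ker_isPGroup _ ?_) _
  rw [QuotientGroup.ker_mk']
  exact hT.comap_subtype

theorem isPGroup_proj {X : Subgroup G} (hX : IsPGroup p X) : IsPGroup p (proj T X) :=
  hX.comap_subtype.map _

theorem mem_normalizer_proj {X : Subgroup G} {g : G} (hgT : g ∈ Subgroup.normalizer (T : Set G))
    (hg : g ∈ Subgroup.normalizer (X : Set G)) :
    QuotientGroup.mk' (T.subgroupOf _) (⟨g, hgT⟩ : Subgroup.normalizer (T : Set G)) ∈
      Subgroup.normalizer ((proj T X : Subgroup (Bar T)) : Set (Bar T)) :=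
  Subgroup.le_normalizer_map _ ⟨_, mem_normalizer_subgroupOf hgT hg, rfl⟩

theorem mem_normalizer_lift {S : Subgroup (Bar T)} {g : G} (hgT : g ∈ Subgroup.normalizer (T : Set G))
    (hg : QuotientGroup.mk' (T.subgroupOf _) (⟨g, hgT⟩ : Subgroup.normalizer (T : Set G)) ∈
      Subgroup.normalizer (S : Set (Bar T))) :
    g ∈ Subgroup.normalizer (lift T S : Set G) := by
  refine Subgroup.le_normalizer_map _ ⟨⟨g, hgT⟩, ?_, rfl⟩
  rw [SetLike.mem_coe, Subgroup.mem_normalizer_iff]
  intro y
  simp only [Subgroup.mem_comap, map_mul, map_inv]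
  exact Subgroup.mem_normalizer_iff.1 hg _

theorem bot_lt_proj_iff {X : Subgroup G} (hX : T ≤ X) :
    (⊥ : Subgroup (Bar T)) < proj T X ↔ T < X ⊓ Subgroup.normalizer (T : Set G) := by
  rw [bot_lt_iff_ne_bot, lt_iff_le_and_ne, and_iff_right (le_inf hX Subgroup.le_normalizer), proj,
    Ne, Subgroup.map_eq_bot_iff, QuotientGroup.ker_mk', not_iff_not]
  constructor
  · intro h
    refine le_antisymm (le_inf hX Subgroup.le_normalizer) fun x hx => ?_
    exact h (show (⟨x, hx.2⟩ : Subgroup.normalizer (T : Set G)) ∈ X.subgroupOf _ from hx.1)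
  · intro h x hx
    rw [Subgroup.mem_subgroupOf]
    exact h.ge ⟨hx, x.2⟩

theorem lt_lift {S : Subgroup (Bar T)} (hS : ⊥ < S) : T < lift T S := by
  refine lt_of_le_of_ne (le_lift T S) fun he => hS.ne' (le_bot_iff.1 ?_)
  intro z hz
  obtain ⟨y, rfl⟩ := QuotientGroup.mk'_surjective _ z
  rw [Subgroup.mem_bot, QuotientGroup.mk'_apply, QuotientGroup.eq_one_iff, Subgroup.mem_subgroupOf]
  exact he.ge ⟨y, hz, rfl⟩

theorem w_reduce [Fact p.Prime] (hT : IsPGroup p T) {g : G} (hgT : g ∈ Subgroup.normalizer (T : Set G)) :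
    w p g T = w p (QuotientGroup.mk' (T.subgroupOf _) (⟨g, hgT⟩ : Subgroup.normalizer (T : Set G))) (⊥ : Subgroup (Bar T)) := by
  classical
  set γ := QuotientGroup.mk' (T.subgroupOf _) (⟨g, hgT⟩ : Subgroup.normalizer (T : Set G))
  let v : Subgroup (Bar T) → ℤ := fun S => ∑ X ∈ (above p g T).filter (fun X => proj T X = S), w p g X
  have hmaps : ∀ X ∈ above p g T, proj T X ∈ above p γ (⊥ : Subgroup (Bar T)) := by
    intro X hX
    obtain ⟨h1, h2, h3⟩ := mem_above.1 hX
    exact mem_above.2 ⟨(bot_lt_proj_iff T h1.le).2 (lt_inf_normalizer h1 h2), isPGroup_proj T h2,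
      mem_normalizer_proj T hgT h3⟩
  have hsum : ∀ S ∈ above p γ (⊥ : Subgroup (Bar T)), ∑ S' ∈ geSet p γ S, v S' = 1 := by
    intro S hS
    obtain ⟨hS1, hS2, hS3⟩ := mem_above.1 hS
    rw [← sum_geSet_self (isPGroup_lift T hT hS2) (mem_normalizer_lift T hgT hS3),
      ← Finset.sum_fiberwise_of_maps_to (t := geSet p γ S) (g := proj T)
        (s := geSet p g (lift T S)) (f := fun X => w p g X) ?_]
    · refine Finset.sum_congr rfl fun S' hS' => Finset.sum_congr ?_ fun _ _ => rfl
      ext X
      simp only [Finset.mem_filter, mem_above, mem_geSet]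
      constructor
      · rintro ⟨⟨h1, h2⟩, rfl⟩
        exact ⟨⟨(le_proj_iff T h1.le S).1 (mem_geSet.1 hS').1, h2⟩, rfl⟩
      · rintro ⟨⟨h1, h2⟩, rfl⟩
        exact ⟨⟨(lt_lift T hS1).trans_le h1, h2⟩, rfl⟩
    · intro X hX
      obtain ⟨h1, h2, h3⟩ := mem_geSet.1 hX
      exact mem_geSet.2 ⟨(le_proj_iff T ((le_lift T S).trans h1) S).2 h1, isPGroup_proj T h2,
        mem_normalizer_proj T hgT h3⟩
  have hv : ∀ S ∈ above p γ (⊥ : Subgroup (Bar T)), v S = w p γ S := by
    intro S
    induction S using WellFoundedGT.induction with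
    | _ S ih =>
      intro hS
      obtain ⟨hS1, hS2, hS3⟩ := mem_above.1 hS
      have hins : geSet p γ S = insert S (above p γ S) := by
        ext S'
        rw [Finset.mem_insert, mem_geSet, mem_above]
        constructor
        · rintro ⟨h1, h2⟩
          rcases h1.lt_or_eq with h | h
          · exact Or.inr ⟨h, h2⟩
          · exact Or.inl h.symm
        · rintro (rfl | ⟨h1, h2⟩)
          · exact ⟨le_rfl, hS2, hS3⟩
          · exact ⟨h1.le, h2⟩
      have h := hsum S hS
      rw [hins, Finset.sum_insert (fun h => lt_irrefl _ (mem_above.1 h).1)] at h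
      have he : ∑ S' ∈ above p γ S, v S' = ∑ S' ∈ above p γ S, w p γ S' :=
        Finset.sum_congr rfl fun S' hS' => by
          obtain ⟨h1, h2⟩ := mem_above.1 hS'
          exact ih S' h1 (mem_above.2 ⟨hS1.trans h1, h2⟩)
      rw [w_eq γ S]
      linarith
  rw [w_eq g T, w_eq γ (⊥ : Subgroup (Bar T)), ← Finset.sum_fiberwise_of_maps_to hmaps (fun X => w p g X)]
  congr 1
  exact Finset.sum_congr rfl hv

theorem E_reduce [Fact p.Prime] (hT : IsPGroup p T) :
    E p T = Nat.card T * E p (⊥ : Subgroup (Bar T)) := by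
  classical
  haveI := Fintype.ofFinite G
  haveI := Fintype.ofFinite (Bar T)
  haveI := Fintype.ofFinite (Subgroup.normalizer ((⊥ : Subgroup (Bar T)) : Set (Bar T)))
  rw [E, finsum_eq_sum_of_fintype, E, finsum_eq_sum_of_fintype,
    Finset.sum_congr rfl (fun g _ => w_reduce T hT g.2),
    ← Finset.sum_fiberwise_of_maps_to (t := (Finset.univ : Finset (Bar T)))
      (g := fun g : Subgroup.normalizer (T : Set G) => QuotientGroup.mk' (T.subgroupOf _) g)
      (fun _ _ => Finset.mem_univ _), Finset.mul_sum]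
  refine Finset.sum_bij' (fun z _ => ⟨z, ?_⟩) (fun z _ => (z : Bar T)) (by simp) (by simp) (by simp) (by simp) ?_
  · rw [Subgroup.mem_normalizer_iff]
    intro x
    simp only [Subgroup.mem_bot]
    constructor
    · rintro rfl; group
    · intro h; simpa using h
  intro z _
  rw [Finset.sum_congr rfl (fun g hg => by
    simp only [Finset.mem_filter] at hg
    exact congrArg (fun a => w p a (⊥ : Subgroup (Bar T))) hg.2),
    Finset.sum_const, nsmul_eq_mul]
  congr 1
  obtain ⟨y, hy⟩ := QuotientGroup.mk'_surjective (T.subgroupOf _) z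
  rw [← Nat.card_congr (Subgroup.subgroupOfEquivOfLe (Subgroup.le_normalizer (H := T))).toEquiv,
    Nat.card_eq_fintype_card, ← Finset.card_univ, Nat.cast_inj]
  refine Finset.card_bij' (fun g _ => (⟨y⁻¹ * g, ?_⟩ : T.subgroupOf (Subgroup.normalizer (T : Set G))))
    (fun t _ => y * (t : Subgroup.normalizer (T : Set G))) (by simp) ?_ (by simp) (by simp)
  · simp only [Finset.mem_filter] at *
    exact QuotientGroup.eq.1 (hy.trans (by simp_all))
  · intro t _
    simp only [Finset.mem_filter, Finset.mem_univ, true_and, ← hy, QuotientGroup.mk'_apply]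
    exact QuotientGroup.eq.2 (by simp [t.2])

theorem isSylow_iff_not_dvd [Fact p.Prime] (hT : IsPGroup p T) :
    (∃ P : Sylow p G, (P : Subgroup G) = T) ↔ ¬ p ∣ Nat.card (Bar T) := by
  constructor
  · rintro ⟨P, rfl⟩ h
    exact P.not_dvd_index (h.trans (Subgroup.relIndex_dvd_index_of_le Subgroup.le_normalizer))
  · intro h
    obtain ⟨P, hP⟩ := hT.exists_le_sylow
    refine ⟨P, (eq_of_le_of_not_lt hP fun hlt => h ?_).symm⟩
    have hne := (bot_lt_proj_iff T hP).2 (lt_inf_normalizer hlt P.2)
    haveI : Nontrivial (proj T (P : Subgroup G)) := (Subgroup.nontrivial_iff_ne_bot _).2 hne.ne'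
    obtain ⟨n, hn, hcard⟩ := (isPGroup_proj T P.2).nontrivial_iff_card.1 inferInstance
    exact (dvd_pow_self p hn.ne').trans (hcard ▸ Subgroup.card_subgroup_dvd_card (proj T (P : Subgroup G)))

end Reduction

theorem w_bot_of_not_dvd [Fact p.Prime] (h : ¬ p ∣ Nat.card G) (g : G) :
    w p g (⊥ : Subgroup G) = 1 := by
  rw [w_eq, sub_eq_self, Finset.sum_eq_zero]
  intro T hT
  obtain ⟨h1, h2, -⟩ := mem_above.1 hT
  haveI : Nontrivial T := (Subgroup.nontrivial_iff_ne_bot _).2 h1.ne'
  obtain ⟨n, hn, hcard⟩ := h2.nontrivial_iff_card.1 inferInstance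
  exact absurd ((dvd_pow_self p hn.ne').trans (hcard ▸ Subgroup.card_subgroup_dvd_card T)) h

theorem inS_bot (g : G) : InS p (⊥ : Subgroup G) g :=
  ⟨⊥, IsPGroup.of_bot, le_rfl, by
    rw [Subgroup.mem_normalizer_iff]
    intro x
    simp only [Subgroup.mem_bot]
    exact ⟨by rintro rfl; group, fun h => by simpa using h⟩⟩

/-- Only the Sylow subgroups carry weight. -/
theorem E_spec [Fact p.Prime] {T : Subgroup G} (hT : IsPGroup p T) :
    ((∃ P : Sylow p G, (P : Subgroup G) = T) → E p T = Nat.card (Subgroup.normalizer (T : Set G))) ∧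
    ((¬ ∃ P : Sylow p G, (P : Subgroup G) = T) → E p T = 0) := by
  classical
  induction hn : Nat.card G using Nat.strong_induction_on generalizing G with
  | _ n ih =>
    subst hn
    rw [isSylow_iff_not_dvd T hT, E_reduce T hT]
    constructor
    · intro h
      have he : E p (⊥ : Subgroup (Bar T)) = Nat.card (Bar T) := by
        haveI := Fintype.ofFinite (Bar T)
        rw [E_eq, Finset.sum_congr rfl (fun g _ => by
          rw [w_bot_of_not_dvd h, if_pos (by rw [normalizer_bot_eq_top]; exact Subgroup.mem_top g)])]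
        simp
      rw [he, ← Subgroup.card_mul_index (T.subgroupOf (Subgroup.normalizer (T : Set G))),
        Nat.card_congr (Subgroup.subgroupOfEquivOfLe (Subgroup.le_normalizer (H := T))).toEquiv,
        Subgroup.index_eq_card]
      push_cast
      rfl
    · intro h
      rw [not_not] at h
      rw [mul_eq_zero, or_iff_right (by exact_mod_cast Nat.card_pos.ne')]
      -- the trivial subgroup of `Bar T`
      obtain ⟨Q⟩ : Nonempty (Sylow p (Bar T)) := Sylow.nonempty
      have hQ : (Q : Subgroup (Bar T)) ≠ ⊥ := fun e => by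
        have := Q.dvd_card_of_dvd_card h
        rw [e, Subgroup.card_bot] at this
        exact (Fact.out : p.Prime).ne_one (Nat.dvd_one.1 this)
      have hle : Nat.card (Bar T) ≤ Nat.card G :=
        (Nat.le_of_dvd Nat.card_pos (Subgroup.card_quotient_dvd_card _)).trans (Subgroup.card_le_card_group _)
      have hall := card_inS (p := p) (⊥ : Subgroup (Bar T))
      rw [Nat.card_congr (Equiv.subtypeUnivEquiv (fun g : Bar T => inS_bot g)),
        finsum_mem_eq_finite_toFinset_sum _ (Set.toFinite _),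
        ← Finset.add_sum_erase _ _ (a := (⊥ : Subgroup (Bar T))) (by simpa using IsPGroup.of_bot)] at hall
      have hsum : ∑ S ∈ ((Set.toFinite {S : Subgroup (Bar T) | ⊥ ≤ S ∧ IsPGroup p S}).toFinset.erase ⊥), E p S
          = (Nat.card (Bar T) : ℤ) := by
        have hspec : ∀ S ∈ ((Set.toFinite {S : Subgroup (Bar T) | ⊥ ≤ S ∧ IsPGroup p S}).toFinset.erase ⊥),
            E p S = if (∃ P : Sylow p (Bar T), (P : Subgroup (Bar T)) = S)
              then (Nat.card (Subgroup.normalizer (S : Set (Bar T))) : ℤ) else 0 := by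
          intro S hS
          simp only [Finset.mem_erase, Set.Finite.mem_toFinset, Set.mem_ofPred_eq] at hS
          rw [E_reduce S hS.2.2]
          have hlt : Nat.card (Bar S) < Nat.card G := by
            refine lt_of_lt_of_le ?_ hle
            refine lt_of_lt_of_le ?_ (Subgroup.card_le_card_group (Subgroup.normalizer (S : Set (Bar T))))
            have h1 := Subgroup.card_mul_index (S.subgroupOf (Subgroup.normalizer (S : Set (Bar T))))
            rw [Nat.card_congr (Subgroup.subgroupOfEquivOfLe (Subgroup.le_normalizer (H := S))).toEquiv,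
              Subgroup.index_eq_card] at h1
            rw [← h1]
            exact lt_mul_of_one_lt_left Nat.card_pos ((Subgroup.one_lt_card_iff_ne_bot _).2 hS.1)
          have hb := ih _ hlt (T := (⊥ : Subgroup (Bar S))) IsPGroup.of_bot rfl
          have hiff : (∃ P : Sylow p (Bar T), (P : Subgroup (Bar T)) = S) ↔
              ∃ P : Sylow p (Bar S), (P : Subgroup (Bar S)) = ⊥ := by
            rw [isSylow_iff_not_dvd S hS.2.2]
            constructor
            · intro h'
              obtain ⟨P⟩ : Nonempty (Sylow p (Bar S)) := Sylow.nonempty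
              refine ⟨P, Subgroup.eq_bot_of_card_eq _ ?_⟩
              rw [Sylow.card_eq_multiplicity, Nat.factorization_eq_zero_of_not_dvd h', pow_zero]
            · rintro ⟨P, hP⟩ h'
              have := P.dvd_card_of_dvd_card h'
              rw [hP, Subgroup.card_bot] at this
              exact (Fact.out : p.Prime).ne_one (Nat.dvd_one.1 this)
          by_cases hS' : ∃ P : Sylow p (Bar T), (P : Subgroup (Bar T)) = S
          · rw [if_pos hS', hb.1 (hiff.1 hS'), normalizer_bot_eq_top, Subgroup.card_top,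
              ← Subgroup.card_mul_index (S.subgroupOf (Subgroup.normalizer (S : Set (Bar T)))),
              Nat.card_congr (Subgroup.subgroupOfEquivOfLe (Subgroup.le_normalizer (H := S))).toEquiv,
              Subgroup.index_eq_card]
            push_cast
            rfl
          · rw [if_neg hS', hb.2 (fun h' => hS' (hiff.2 h')), mul_zero]
        rw [Finset.sum_congr rfl hspec, ← Finset.sum_filter]
        haveI := Fintype.ofFinite (Sylow p (Bar T))
        rw [← Finset.sum_bij (s := (Finset.univ : Finset (Sylow p (Bar T))))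
          (f := fun P => (Nat.card (Subgroup.normalizer ((P : Subgroup (Bar T)) : Set (Bar T))) : ℤ))
          (fun P _ => (P : Subgroup (Bar T)))
          (fun P _ => by
            simp only [Finset.mem_filter, Finset.mem_erase, Set.Finite.mem_toFinset, Set.mem_ofPred_eq]
            exact ⟨⟨fun e => hQ (Subgroup.eq_bot_of_card_eq _ (by
              rw [Sylow.card_eq_multiplicity, ← Sylow.card_eq_multiplicity P, e, Subgroup.card_bot])), bot_le, P.2⟩, P, rfl⟩)
          (fun P _ P' _ e => Sylow.ext e)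
          (fun S hS => by
            simp only [Finset.mem_filter] at hS
            obtain ⟨P, hP⟩ := hS.2
            exact ⟨P, Finset.mem_univ _, hP⟩)
          (fun P _ => rfl)]
        have hconst : ∀ P : Sylow p (Bar T),
            (Nat.card (Subgroup.normalizer ((P : Subgroup (Bar T)) : Set (Bar T))) : ℤ) * Nat.card (Sylow p (Bar T)) = Nat.card (Bar T) := by
          intro P
          rw [P.card_eq_index_normalizer]
          exact_mod_cast Subgroup.card_mul_index _
        have hc0 : (Nat.card (Sylow p (Bar T)) : ℤ) ≠ 0 := by exact_mod_cast Nat.card_pos.ne'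
        apply mul_right_cancel₀ hc0
        rw [Finset.sum_mul, Finset.sum_congr rfl (fun P _ => hconst P), Finset.sum_const, Finset.card_univ,
          ← Nat.card_eq_fintype_card, nsmul_eq_mul, mul_comm]
      rw [hsum] at hall
      linarith

/-- Casolo's count. -/
theorem card_inS_eq [Fact p.Prime] {H : Subgroup G} (hH : IsPGroup p H) (P : Sylow p G) :
    Nat.card {g : G // InS p H g} =
      Nat.card {Q : Sylow p G // H ≤ (Q : Subgroup G)} *
        Nat.card (Subgroup.normalizer ((P : Subgroup G) : Set G)) := by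
  classical
  have hN : ∀ Q : Sylow p G, Nat.card (Subgroup.normalizer ((Q : Subgroup G) : Set G)) =
      Nat.card (Subgroup.normalizer ((P : Subgroup G) : Set G)) := by
    intro Q
    have h1 := Subgroup.card_mul_index (Subgroup.normalizer ((Q : Subgroup G) : Set G))
    have h2 := Subgroup.card_mul_index (Subgroup.normalizer ((P : Subgroup G) : Set G))
    rw [show (Subgroup.normalizer ((Q : Subgroup G) : Set G)).index = Nat.card (Sylow p G) from Q.card_eq_index_normalizer.symm] at h1
    rw [show (Subgroup.normalizer ((P : Subgroup G) : Set G)).index = Nat.card (Sylow p G) from P.card_eq_index_normalizer.symm, ← h1] at h2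
    exact (Nat.eq_of_mul_eq_mul_right Nat.card_pos h2).symm
  zify
  rw [card_inS, finsum_mem_eq_finite_toFinset_sum _ (Set.toFinite _)]
  haveI := Fintype.ofFinite (Subgroup G)
  rw [← Finset.sum_filter_of_ne (p := fun T => ∃ Q : Sylow p G, (Q : Subgroup G) = T)]
  · haveI := Fintype.ofFinite {Q : Sylow p G // H ≤ (Q : Subgroup G)}
    rw [← Finset.sum_bij (s := (Finset.univ : Finset {Q : Sylow p G // H ≤ (Q : Subgroup G)}))
      (f := fun _ => (Nat.card (Subgroup.normalizer ((P : Subgroup G) : Set G)) : ℤ))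
      (fun Q _ => (Q.1 : Subgroup G))]
    · simp [Nat.card_eq_fintype_card]
    · intro Q _
      simp only [Finset.mem_filter, Set.Finite.mem_toFinset, Set.mem_ofPred_eq]
      exact ⟨⟨Q.2, Q.1.2⟩, Q.1, rfl⟩
    · intro Q _ Q' _ e
      exact Subtype.ext (Sylow.ext e)
    · intro T hT
      simp only [Finset.mem_filter, Set.Finite.mem_toFinset, Set.mem_ofPred_eq] at hT
      obtain ⟨Q, rfl⟩ := hT.2
      exact ⟨⟨Q, hT.1.1⟩, Finset.mem_univ _, rfl⟩
    · intro Q _
      rw [(E_spec Q.1.2).1 ⟨Q.1, rfl⟩]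
      exact_mod_cast (hN Q.1).symm
  · intro T hT hne
    simp only [Set.Finite.mem_toFinset, Set.mem_ofPred_eq] at hT
    by_contra h
    exact hne ((E_spec hT.2).2 h)

end Cfsg.Agent.Lib.SubnormSet
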