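import Mathlib
import Cfsg.Agent.Lib.Coprime.Action
import Cfsg.Agent.Lib.Coprime.Glauberman

set_option autoImplicit false
set_option linter.unusedSectionVars false

/-!
Coprime action of a `p`-group `A` on `V`:
`(∏ x, |C_V(x)|) ^ p ≤ |V| ^ |A| * |C_V(A)| ^ ((p - 1) |A|)`.
-/

open scoped Pointwise

namespace Cfsg.Agent.Lib.SubnormSet.Average

universe u v
variable {A : Type u} [Group A] [Finite A] {V : Type v} [Group V] [Finite V] {p : ℕ} [Fact p.Prime]

/-- The fixed points of `B`. -/
def fix (φ : A →* MulAut V) (B : Subgroup A) : Subgroup V where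
  carrier := {v | ∀ b ∈ B, φ b v = v}
  mul_mem' := fun ha hb b hB => by rw [map_mul, ha b hB, hb b hB]
  one_mem' := fun b _ => map_one _
  inv_mem' := fun ha b hB => by rw [map_inv, ha b hB]

theorem mem_fix {φ : A →* MulAut V} {B : Subgroup A} {x : V} : x ∈ fix φ B ↔ ∀ b ∈ B, φ b x = x :=
  Iff.rfl

theorem mem_fix_zpowers {φ : A →* MulAut V} {a : A} {x : V} :
    x ∈ fix φ (Subgroup.zpowers a) ↔ φ a x = x := by
  refine ⟨fun h => h a (Subgroup.mem_zpowers a), fun h b hb => ?_⟩
  obtain ⟨k, rfl⟩ := Subgroup.mem_zpowers_iff.1 hb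
  have hs : φ a ∈ MulAction.stabilizer (MulAut V) x := by simpa [MulAction.mem_stabilizer_iff] using h
  have := Subgroup.zpow_mem _ hs k
  rw [← map_zpow] at this
  simpa [MulAction.mem_stabilizer_iff] using this

/-- The action on an invariant subgroup. -/
def resAut (φ : A →* MulAut V) (W : Subgroup V) (hW : ∀ a, ∀ w ∈ W, φ a w ∈ W) : A →* MulAut W where
  toFun a :=
    { toFun := fun w => ⟨φ a w, hW a w w.2⟩
      invFun := fun w => ⟨φ a⁻¹ w, hW a⁻¹ w w.2⟩
      left_inv := fun w => Subtype.ext (by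
        show φ a⁻¹ (φ a (w : V)) = w
        rw [← MulAut.mul_apply, ← map_mul, inv_mul_cancel, map_one]; rfl)
      right_inv := fun w => Subtype.ext (by
        show φ a (φ a⁻¹ (w : V)) = w
        rw [← MulAut.mul_apply, ← map_mul, mul_inv_cancel, map_one]; rfl)
      map_mul' := fun x y => Subtype.ext (map_mul (φ a) (x : V) y) }
  map_one' := MulEquiv.ext fun w => Subtype.ext (show φ 1 (w : V) = w by rw [map_one]; rfl)
  map_mul' a b := MulEquiv.ext fun w => Subtype.ext
    (show φ (a * b) (w : V) = φ a (φ b w) by rw [map_mul]; rfl)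

theorem resAut_apply (φ : A →* MulAut V) (W : Subgroup V) (hW : ∀ a, ∀ w ∈ W, φ a w ∈ W) (a : A) (w : W) :
    ((resAut φ W hW a w : W) : V) = φ a w := rfl

theorem map_eq_of_invariant (φ : A →* MulAut V) (W : Subgroup V) (hW : ∀ a, ∀ w ∈ W, φ a w ∈ W) (a : A) :
    W.map (φ a).toMonoidHom = W := by
  refine le_antisymm (Subgroup.map_le_iff_le_comap.2 (hW a)) fun w hw => ⟨φ a⁻¹ w, hW a⁻¹ w hw, ?_⟩
  show φ a (φ a⁻¹ w) = w
  rw [← MulAut.mul_apply, ← map_mul, mul_inv_cancel, map_one]; rfl

/-- The action on the quotient by an invariant normal subgroup. -/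
def quotAut (φ : A →* MulAut V) (W : Subgroup V) [W.Normal] (hW : ∀ a, ∀ w ∈ W, φ a w ∈ W) :
    A →* MulAut (V ⧸ W) where
  toFun a := QuotientGroup.congr W W (φ a) (map_eq_of_invariant φ W hW a)
  map_one' := MulEquiv.ext fun x => QuotientGroup.induction_on x fun v => by
    show ((φ 1 v : V) : V ⧸ W) = _
    rw [map_one]; rfl
  map_mul' a b := MulEquiv.ext fun x => QuotientGroup.induction_on x fun v => by
    show ((φ (a * b) v : V) : V ⧸ W) = _
    rw [map_mul]; rfl

theorem quotAut_mk (φ : A →* MulAut V) (W : Subgroup V) [W.Normal] (hW : ∀ a, ∀ w ∈ W, φ a w ∈ W)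
    (a : A) (x : V) : quotAut φ W hW a (x : V ⧸ W) = ((φ a x : V) : V ⧸ W) := rfl

theorem fix_mul (hA : IsPGroup p A) (φ : A →* MulAut V) (W : Subgroup V) [W.Normal]
    (hW : ∀ a, ∀ w ∈ W, φ a w ∈ W) (hco : (Nat.card V).Coprime p) (B : Subgroup A) :
    Nat.card (fix φ B) = Nat.card (fix (resAut φ W hW) B) * Nat.card (fix (quotAut φ W hW) B) := by
  letI : MulDistribMulAction B V := MulDistribMulAction.compHom V (φ.comp B.subtype)
  have hrange : fix (quotAut φ W hW) B = (fix φ B).map (QuotientGroup.mk' W) := by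
    apply le_antisymm
    · intro x hx
      obtain ⟨g, rfl⟩ := QuotientGroup.mk'_surjective W x
      haveI : Group.IsSolvable B := Coprime.isSolvable_of_isPGroup (hA.to_subgroup B)
      obtain ⟨k, hk⟩ := IsPGroup.iff_card.1 (hA.to_subgroup B)
      obtain ⟨n, hn, hfix⟩ := Coprime.Action.exists_mul_fixed (A := B) (N := W)
        (fun b w hw => hW (b : A) w hw)
        (hk ▸ (hco.symm.coprime_dvd_right (Subgroup.card_subgroup_dvd_card W)).pow_left k)
        (Or.inl inferInstance) (g := g) (fun b => QuotientGroup.eq.1 (hx (b : A) b.2).symm)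
      refine ⟨g * n, fun b hb => hfix ⟨b, hb⟩, ?_⟩
      rw [map_mul, QuotientGroup.mk'_apply, QuotientGroup.mk'_apply, (QuotientGroup.eq_one_iff n).2 hn, mul_one]
    · rintro _ ⟨g, hg, rfl⟩ b hb
      rw [QuotientGroup.mk'_apply, quotAut_mk, hg b hb]
  let f : fix φ B →* V ⧸ W := (QuotientGroup.mk' W).comp (fix φ B).subtype
  have hf : f.range = fix (quotAut φ W hW) B := by
    rw [hrange, MonoidHom.range_comp, Subgroup.range_subtype]
  rw [← hf, ← Subgroup.card_mul_index f.ker, Subgroup.index_ker]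
  congr 1
  refine Nat.card_congr
    { toFun := fun x => ⟨⟨x.1.1, (QuotientGroup.eq_one_iff _).1 x.2⟩, fun b hb => Subtype.ext (x.1.2 b hb)⟩
      invFun := fun x => ⟨⟨x.1.1, fun b hb => congrArg Subtype.val (x.2 b hb)⟩, (QuotientGroup.eq_one_iff _).2 x.1.2⟩
      left_inv := fun x => rfl
      right_inv := fun x => rfl }

/-- The claimed inequality, for one action. -/
def Bound (p : ℕ) (φ : A →* MulAut V) : Prop :=
  (∏ᶠ x : A, Nat.card (fix φ (Subgroup.zpowers x))) ^ p ≤
    Nat.card V ^ Nat.card A * Nat.card (fix φ ⊤) ^ ((p - 1) * Nat.card A)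

theorem bound_of_top (φ : A →* MulAut V) (h : fix φ ⊤ = ⊤) : Bound p φ := by
  classical
  haveI := Fintype.ofFinite A
  have hx : ∀ x : A, fix φ (Subgroup.zpowers x) = ⊤ := fun x => by
    refine eq_top_iff.2 fun v _ => ?_
    exact fun b _ => (h.ge (Subgroup.mem_top v)) b (Subgroup.mem_top b)
  rw [Bound, finprod_eq_prod_of_fintype, h]
  simp only [hx, Subgroup.card_top, Finset.prod_const, Finset.card_univ, ← Nat.card_eq_fintype_card]
  rw [← pow_mul, ← pow_add]
  refine le_of_eq (congrArg _ ?_)
  obtain ⟨q, hq⟩ : ∃ q, p = q + 1 := ⟨p - 1, by have := (Fact.out : p.Prime).one_le; omega⟩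
  rw [hq, Nat.add_sub_cancel]; ring

theorem eq_one_of_prod {W : Type*} [CommGroup W] (e z : W →* W) (hez : ∀ w, e (z w) = z (e w))
    {n : ℕ} (hz : ∀ d : ℕ, 0 < d → d < n → ∀ w, (⇑z)^[d] w = w → w = 1) (hzi : Function.Injective z)
    (S : Finset ℕ) (hS : ∀ i ∈ S, i < n) :
    ∀ v : ℕ → W, (∀ i ∈ S, e ((⇑z)^[i] (v i)) = v i) → ∏ i ∈ S, v i = 1 → ∀ i ∈ S, v i = 1 := by
  classical
  have hcomm : ∀ (i : ℕ) (w : W), e ((⇑z)^[i] w) = (⇑z)^[i] (e w) := by
    intro i
    induction i with
    | zero => intro w; rfl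
    | succ i ih => intro w; rw [Function.iterate_succ_apply, ih, hez, Function.iterate_succ_apply]
  induction S using Finset.induction with
  | empty => intro v _ _ i hi; simp at hi
  | @insert k S hkS ih =>
    intro v hv hprod i hi
    have hS' : ∀ i ∈ S, i < n := fun i hi => hS i (Finset.mem_insert_of_mem hi)
    let u : ℕ → W := fun i => e ((⇑z)^[k] (v i)) * (v i)⁻¹
    have hpow : ∀ (i : ℕ) (a b : W), (⇑z)^[i] (a * b) = (⇑z)^[i] a * (⇑z)^[i] b := by
      intro i a b; exact iterate_map_mul z i a b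
    have hu : ∀ i ∈ S, e ((⇑z)^[i] (u i)) = u i := by
      intro i hi
      have h1 := hv i (Finset.mem_insert_of_mem hi)
      simp only [u, hpow, map_mul]
      congr 1
      · rw [← hcomm i, ← Function.iterate_add_apply, add_comm, Function.iterate_add_apply, hcomm k, h1]
      · rw [iterate_map_inv z i, map_inv, h1]
    have hall : ∏ i ∈ insert k S, u i = 1 := by
      simp only [u, Finset.prod_mul_distrib, Finset.prod_inv_distrib, hprod, inv_one, mul_one]
      have hi : ∏ i ∈ insert k S, e ((⇑z)^[k] (v i)) = e ((⇑z)^[k] (∏ i ∈ insert k S, v i)) := by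
        clear hv hprod hu hi
        induction (insert k S) using Finset.induction with
        | empty => simp [iterate_map_one]
        | @insert a T haT ihT => rw [Finset.prod_insert haT, Finset.prod_insert haT, hpow, map_mul, ihT]
      rw [hi, hprod, iterate_map_one, map_one]
    have huk : u k = 1 := by simp [u, hv k (Finset.mem_insert_self k S)]
    rw [Finset.prod_insert hkS, huk, one_mul] at hall
    have hzero : ∀ i ∈ S, v i = 1 := by
      intro i hi
      have h1 := hv i (Finset.mem_insert_of_mem hi)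
      have h2 : e ((⇑z)^[k] (v i)) = v i := mul_inv_eq_one.1 (ih hS' u hu hall i hi)
      have hne : i ≠ k := fun h => hkS (h ▸ hi)
      have hi' := hS' i hi
      have hk' := hS k (Finset.mem_insert_self k S)
      rcases Nat.lt_or_gt_of_ne hne with hlt | hlt
      · refine hz (k - i) (by omega) (by omega) _ ?_
        conv_lhs => rw [← h1]
        rw [← hcomm, ← Function.iterate_add_apply, show k - i + i = k by omega]
        exact h2
      · refine hz (i - k) (by omega) (by omega) _ ?_
        conv_lhs => rw [← h2]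
        rw [← hcomm, ← Function.iterate_add_apply, show i - k + k = i by omega]
        exact h1
    rcases Finset.mem_insert.1 hi with rfl | hi
    · rw [Finset.prod_insert hkS, Finset.prod_eq_one hzero, mul_one] at hprod
      exact hprod
    · exact hzero i hi

theorem bound_of_minimal (hA : IsPGroup p A) (φ : A →* MulAut V) (hcomm : ∀ x y : V, x * y = y * x)
    (hmin : ∀ W : Subgroup V, (∀ a, ∀ w ∈ W, φ a w ∈ W) → W = ⊥ ∨ W = ⊤) : Bound p φ := by
  classical
  letI : CommGroup V := { ‹Group V› with mul_comm := hcomm }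
  by_cases htop : fix φ ⊤ = ⊤
  · exact bound_of_top φ htop
  have hinvfix : ∀ (B : Subgroup A) [B.Normal], ∀ a, ∀ w ∈ fix φ B, φ a w ∈ fix φ B := by
    intro B _ a w hw b hb
    have h2 := hw (a⁻¹ * b * a) (by simpa using Subgroup.Normal.conj_mem ‹B.Normal› b hb a⁻¹)
    have h3 := congrArg (φ a) h2
    rw [← MulAut.mul_apply, ← map_mul, show a * (a⁻¹ * b * a) = b * a by group, map_mul, MulAut.mul_apply] at h3
    exact h3
  have hbot : fix φ ⊤ = ⊥ := (hmin _ (hinvfix ⊤)).resolve_right htop
  have hp : p.Prime := Fact.out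
  -- a central element of order `p` in the image
  have hQ : IsPGroup p φ.range := hA.of_surjective φ.rangeRestrict φ.rangeRestrict_surjective
  haveI : Nontrivial φ.range := by
    rw [Subgroup.nontrivial_iff_ne_bot, Ne, MonoidHom.range_eq_bot_iff]
    intro h1
    exact htop (eq_top_iff.2 fun v _ b _ => by rw [h1]; rfl)
  haveI : Nontrivial (Subgroup.center φ.range) := hQ.center_nontrivial
  obtain ⟨k, hk0, hk⟩ := (hQ.to_subgroup (Subgroup.center φ.range)).nontrivial_iff_card.1 inferInstance
  obtain ⟨z, hz⟩ := exists_prime_orderOf_dvd_card' (G := Subgroup.center φ.range) p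
    (hk ▸ dvd_pow_self p hk0.ne')
  obtain ⟨za, hza⟩ := (z : φ.range).2
  have hzo : orderOf (φ za) = p := by rw [hza, Subgroup.orderOf_coe, Subgroup.orderOf_coe, hz]
  have hzc : ∀ a : A, φ a * φ za = φ za * φ a := by
    intro a
    have := congrArg Subtype.val (Subgroup.mem_center_iff.1 z.2 ⟨φ a, a, rfl⟩)
    simpa [← hza] using this
  let Z : V →* V := (φ za).toMonoidHom
  have hZit : ∀ (d : ℕ) (w : V), (⇑Z)^[d] w = φ (za ^ d) w := by
    intro d
    induction d with
    | zero => intro w; simp
    | succ d ih => intro w; rw [Function.iterate_succ_apply', ih, pow_succ', map_mul]; rfl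
  have hzfree : ∀ d : ℕ, 0 < d → d < p → ∀ w, (⇑Z)^[d] w = w → w = 1 := by
    intro d hd0 hdp w hw
    rw [hZit] at hw
    set W : Subgroup V := fix φ (Subgroup.zpowers (za ^ d)) with hWdef
    have hW : ∀ a, ∀ w ∈ W, φ a w ∈ W := by
      intro a w hw
      rw [hWdef, mem_fix_zpowers] at hw ⊢
      have hc : φ (za ^ d) * φ a = φ a * φ (za ^ d) := by
        rw [map_pow]; exact (Commute.pow_left (hzc a).symm d).eq
      rw [← MulAut.mul_apply, hc, MulAut.mul_apply, hw]
    rcases hmin W hW with h | h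
    · have hmem : w ∈ W := mem_fix_zpowers.2 hw
      rw [h] at hmem
      exact Subgroup.mem_bot.1 hmem
    · exfalso
      have h1 : φ za ^ d = 1 := by
        ext v
        rw [← map_pow]
        exact mem_fix_zpowers.1 (h.ge (Subgroup.mem_top v))
      rw [← orderOf_dvd_iff_pow_eq_one, hzo] at h1
      exact absurd (Nat.le_of_dvd hd0 h1) (by omega)
  haveI := Fintype.ofFinite A
  haveI := Fintype.ofFinite V
  have hline : ∀ x : A, ∏ i : Fin p, Nat.card (fix φ (Subgroup.zpowers (x * za ^ (i : ℕ)))) ≤ Nat.card V := by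
    intro x
    rw [← Nat.card_pi]
    refine Nat.card_le_card_of_injective (fun a => ∏ i, (a i : V)) fun a b hab => ?_
    let v : ℕ → V := fun i => if h : i < p then (a ⟨i, h⟩ : V) * (b ⟨i, h⟩ : V)⁻¹ else 1
    have hv : ∀ i ∈ Finset.range p, (φ x).toMonoidHom ((⇑Z)^[i] (v i)) = v i := by
      intro i hi
      rw [Finset.mem_range] at hi
      simp only [v, dif_pos hi, hZit]
      show φ x (φ (za ^ i) _) = _
      rw [← MulAut.mul_apply, ← map_mul]
      exact mem_fix_zpowers.1 (mul_mem (a ⟨i, hi⟩).2 (inv_mem (b ⟨i, hi⟩).2))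
    have hprod : ∏ i ∈ Finset.range p, v i = 1 := by
      rw [Finset.prod_range (fun i => v i)]
      simp only [v, Fin.is_lt, dite_true, Fin.eta, Finset.prod_mul_distrib, Finset.prod_inv_distrib]
      exact mul_inv_eq_one.2 hab
    have := eq_one_of_prod (φ x).toMonoidHom Z (fun w => by
      show φ x (φ za w) = φ za (φ x w)
      rw [← MulAut.mul_apply, hzc, MulAut.mul_apply]) (n := p) hzfree (φ za).injective (Finset.range p)
      (fun i hi => Finset.mem_range.1 hi) v hv hprod
    funext i
    have h := this i (Finset.mem_range.2 i.2)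
    simp only [v, Fin.is_lt, dite_true, Fin.eta] at h
    exact Subtype.ext (mul_inv_eq_one.1 h)
  rw [Bound, hbot, Subgroup.card_bot, one_pow, mul_one, finprod_eq_prod_of_fintype]
  calc (∏ x : A, Nat.card (fix φ (Subgroup.zpowers x))) ^ p
      = ∏ i : Fin p, ∏ x : A, Nat.card (fix φ (Subgroup.zpowers (x * za ^ (i : ℕ)))) := by
        rw [Finset.prod_congr rfl (fun (i : Fin p) _ => show
          (∏ x : A, Nat.card (fix φ (Subgroup.zpowers (x * za ^ (i : ℕ))))) = ∏ y : A, Nat.card (fix φ (Subgroup.zpowers y)) from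
          Equiv.prod_comp (Equiv.mulRight (za ^ (i : ℕ))) (fun y : A => Nat.card (fix φ (Subgroup.zpowers y))))]
        simp
    _ = ∏ x : A, ∏ i : Fin p, Nat.card (fix φ (Subgroup.zpowers (x * za ^ (i : ℕ)))) := Finset.prod_comm
    _ ≤ ∏ _x : A, Nat.card V := Finset.prod_le_prod' fun x _ => hline x
    _ = Nat.card V ^ Nat.card A := by simp [Nat.card_eq_fintype_card]

theorem bound_of_isPGroup (hA : IsPGroup p A) {r : ℕ} [Fact r.Prime] :
    ∀ (n : ℕ) (V : Type v) [Group V] [Finite V], Nat.card V = n → IsPGroup r V →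
      (Nat.card V).Coprime p → ∀ φ : A →* MulAut V, Bound p φ := by
  intro n
  induction n using Nat.strong_induction_on with
  | _ n ih =>
    intro V _ _ hn hV hco φ
    subst hn
    by_cases hW : ∃ W : Subgroup V, W.Normal ∧ W ≠ ⊥ ∧ W ≠ ⊤ ∧ ∀ a, ∀ w ∈ W, φ a w ∈ W
    · obtain ⟨W, hWn, hW1, hW2, hWi⟩ := hW
      haveI := hWn
      have hlt1 : Nat.card W < Nat.card V := lt_of_le_of_ne (Subgroup.card_le_card_group W)
        (fun h => hW2 (Subgroup.eq_top_of_card_eq W h))
      have hlt2 : Nat.card (V ⧸ W) < Nat.card V := by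
        rw [Subgroup.card_eq_card_quotient_mul_card_subgroup W]
        exact lt_mul_of_one_lt_right Nat.card_pos ((Subgroup.one_lt_card_iff_ne_bot W).2 hW1)
      have h1 := ih _ hlt1 W rfl (hV.to_subgroup W) (hco.coprime_dvd_left (Subgroup.card_subgroup_dvd_card W)) (resAut φ W hWi)
      have h2 := ih _ hlt2 (V ⧸ W) rfl (hV.to_quotient W) (hco.coprime_dvd_left (Subgroup.card_quotient_dvd_card W)) (quotAut φ W hWi)
      haveI := Fintype.ofFinite A
      unfold Bound at h1 h2 ⊢
      rw [finprod_eq_prod_of_fintype] at h1 h2 ⊢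
      simp only [fix_mul hA φ W hWi hco]
      rw [Finset.prod_mul_distrib, mul_pow, mul_pow, Subgroup.card_eq_card_quotient_mul_card_subgroup W, mul_pow]
      exact (Nat.mul_le_mul h1 h2).trans_eq (by ring)
    · push Not at hW
      have hcomm : ∀ x y : V, x * y = y * x := by
        rcases subsingleton_or_nontrivial V with hs | hs
        · exact fun x y => Subsingleton.elim _ _
        have hc : Subgroup.center V = ⊤ := by
          by_contra hc
          obtain ⟨a, w, hw, hwn⟩ := hW (Subgroup.center V) inferInstance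
            ((Subgroup.nontrivial_iff_ne_bot _).1 hV.center_nontrivial) hc
          exact hwn ((Subgroup.characteristic_iff_map_le.1 inferInstance (φ a)) ⟨w, hw, rfl⟩)
        exact fun x y => ((Subgroup.mem_center_iff.1 (hc.ge (Subgroup.mem_top x))) y).symm
      refine bound_of_minimal hA φ hcomm fun W hWi => ?_
      by_contra h
      push Not at h
      obtain ⟨a, w, hw, hwn⟩ := hW W ⟨fun x hx g => by rw [hcomm g x, mul_inv_cancel_right]; exact hx⟩ h.1 h.2
      exact hwn (hWi a w hw)

theorem exists_invariant_sylow_ge (hA : IsPGroup p A) (φ : A →* MulAut V) (hco : (Nat.card V).Coprime p)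
    (B : Subgroup A) {r : ℕ} [Fact r.Prime] (U : Subgroup V) (hU : IsPGroup r U)
    (hUB : ∀ u ∈ U, ∀ b ∈ B, φ b u = u) :
    ∃ R : Sylow r V, U ≤ (R : Subgroup V) ∧ ∀ b ∈ B, ∀ x ∈ (R : Subgroup V), φ b x ∈ (R : Subgroup V) := by
  letI : MulDistribMulAction B V := MulDistribMulAction.compHom V (φ.comp B.subtype)
  haveI := Coprime.Action.finite_semi (A := B) (G := V)
  haveI : Group.IsSolvable B := Coprime.isSolvable_of_isPGroup (hA.to_subgroup B)
  obtain ⟨k, hk⟩ := IsPGroup.iff_card.1 (hA.to_subgroup B)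
  obtain ⟨P, hUP, hP⟩ := Coprime.exists_invariant_sylow_ge (Coprime.Action.actA_le_normalizer_grpG (A := B) (G := V))
    (by rw [Coprime.Action.card_actA, Coprime.Action.card_grpG, hk]; exact hco.symm.pow_left k)
    (Coprime.Action.solvable_or_grpG (Or.inl inferInstance)) r (U.map (Coprime.Action.embG B V))
    (Subgroup.map_le_range _ _) (hU.map _)
    (Coprime.Action.actA_le_normalizer_iff.2 fun b u hu => by
      have : b • u = u := hUB u hu b b.2
      rw [this]; exact hu)
  set Q := ((P : Subgroup (Coprime.Action.grpG B V)).map (Coprime.Action.grpG B V).subtype).comap (Coprime.Action.embG B V)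
  have hmap : Q.map (Coprime.Action.embG B V) = (P : Subgroup (Coprime.Action.grpG B V)).map (Coprime.Action.grpG B V).subtype :=
    Subgroup.map_comap_eq_self (Subgroup.map_subtype_le _)
  have hcard : Nat.card Q = r ^ (Nat.card V).factorization r := by
    rw [← Coprime.Action.card_map_embG (A := B) Q, hmap, Coprime.card_sylow_map, Coprime.Action.card_grpG]
  rw [← hmap] at hP hUP
  refine ⟨Sylow.ofCard Q hcard, ?_, ?_⟩
  · rw [Sylow.coe_ofCard]
    exact (Subgroup.map_le_map_iff_of_injective SemidirectProduct.inl_injective).1 hUP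
  · rw [Sylow.coe_ofCard]
    exact fun b hb x hx => Coprime.Action.actA_le_normalizer_iff.1 hP ⟨b, hb⟩ x hx

theorem card_fix_sylow (hA : IsPGroup p A) (φ : A →* MulAut V) (hco : (Nat.card V).Coprime p)
    (B : Subgroup A) {r : ℕ} [Fact r.Prime] (R : Sylow r V)
    (hR : ∀ a, ∀ w ∈ (R : Subgroup V), φ a w ∈ (R : Subgroup V)) :
    Nat.card (fix (resAut φ R hR) B) = r ^ (Nat.card (fix φ B)).factorization r := by
  have hr : r.Prime := Fact.out
  apply le_antisymm
  · obtain ⟨k, hk⟩ := IsPGroup.iff_card.1 (R.2.to_subgroup (fix (resAut φ R hR) B))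
    rw [hk]
    refine Nat.pow_le_pow_right hr.pos ?_
    rw [← hr.pow_dvd_iff_le_factorization Nat.card_pos.ne', ← hk,
      ← Subgroup.card_map_of_injective (R : Subgroup V).subtype_injective]
    refine Subgroup.card_dvd_of_le ?_
    rintro _ ⟨w, hw, rfl⟩ b hb
    exact congrArg Subtype.val (hw b hb)
  · obtain ⟨T⟩ : Nonempty (Sylow r (fix φ B)) := Sylow.nonempty
    set U := (T : Subgroup (fix φ B)).map (fix φ B).subtype with hU
    have hUB : ∀ u ∈ U, ∀ b ∈ B, φ b u = u := by
      rintro _ ⟨u, -, rfl⟩ b hb; exact u.2 b hb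
    obtain ⟨R', hUR, hR'⟩ := exists_invariant_sylow_ge hA φ hco B U (T.2.map _) hUB
    letI : MulDistribMulAction B V := MulDistribMulAction.compHom V (φ.comp B.subtype)
    haveI : Group.IsSolvable B := Coprime.isSolvable_of_isPGroup (hA.to_subgroup B)
    obtain ⟨k, hk⟩ := IsPGroup.iff_card.1 (hA.to_subgroup B)
    obtain ⟨c, hc, hcR⟩ := Coprime.Action.exists_conj_invariant_sylow (A := B) (G := V)
      (hk ▸ hco.symm.pow_left k) (Or.inl inferInstance) R' R
      (fun b x hx => hR' b b.2 x hx) (fun b x hx => hR b x hx)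
    rw [← Sylow.card_eq_multiplicity T, ← Subgroup.card_map_of_injective (fix φ B).subtype_injective, ← hU]
    refine Nat.card_le_card_of_injective
      (fun u => (⟨⟨c * u.1 * c⁻¹, ?_⟩, ?_⟩ : fix (resAut φ R hR) B)) ?_
    · rw [← hcR, Coprime.mem_conj_smul]
      have h1 := hUR u.2
      convert h1 using 1
      group
    · intro b hb
      apply Subtype.ext
      rw [resAut_apply, map_mul, map_mul, map_inv, hUB u.1 u.2 b hb, show φ b c = c from hc ⟨b, hb⟩]
    · intro u v h
      have h' := congrArg (fun w : fix (resAut φ R hR) B => ((w : (R : Subgroup V)) : V)) h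
      exact Subtype.ext (mul_left_cancel (mul_right_cancel h'))

/-- The averaged fixed-point bound for a coprime `p`-group action. -/
theorem bound (hA : IsPGroup p A) (φ : A →* MulAut V) (hco : (Nat.card V).Coprime p) : Bound p φ := by
  classical
  obtain ⟨k, hk⟩ := IsPGroup.iff_card.1 hA
  have hex : ∀ r : (Nat.card V).primeFactors, ∃ R : Sylow (r : ℕ) V,
      ∀ a, ∀ w ∈ (R : Subgroup V), φ a w ∈ (R : Subgroup V) := by
    intro r
    haveI := Fact.mk (Nat.prime_of_mem_primeFactors r.2)
    letI : MulDistribMulAction A V := MulDistribMulAction.compHom V φ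
    exact Coprime.Action.exists_invariant_sylow (A := A) (G := V) (hk ▸ hco.symm.pow_left k)
      (Or.inl (by haveI := hA.isNilpotent; infer_instance)) r
  choose R hR using hex
  have hkey : ∀ B : Subgroup A, Nat.card (fix φ B) =
      ∏ r : (Nat.card V).primeFactors, Nat.card (fix (resAut φ (R r : Subgroup V) (hR r)) B) := by
    intro B
    rw [Finset.prod_congr rfl (fun (r : (Nat.card V).primeFactors) _ => by
      haveI := Fact.mk (Nat.prime_of_mem_primeFactors r.2)
      exact card_fix_sylow hA φ hco B (R r) (hR r))]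
    rw [Finset.prod_coe_sort (Nat.card V).primeFactors (fun r => r ^ (Nat.card (fix φ B)).factorization r)]
    rw [← Finset.prod_subset (Nat.primeFactors_mono (Subgroup.card_subgroup_dvd_card (fix φ B)) Nat.card_pos.ne')]
    · exact Nat.prod_primeFactors_pow_factorization (Nat.card_pos (α := fix φ B)).ne'
    · intro r _ hr
      rw [Finsupp.notMem_support_iff.1 (by rwa [Nat.support_factorization]), pow_zero]
  haveI := Fintype.ofFinite A
  unfold Bound
  rw [finprod_eq_prod_of_fintype, Finset.prod_congr rfl (fun x _ => hkey (Subgroup.zpowers x)),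
    Finset.prod_comm, hkey ⊤, ← Finset.prod_pow, ← Finset.prod_pow]
  have hV : Nat.card V = ∏ r : (Nat.card V).primeFactors, Nat.card (R r : Subgroup V) := by
    rw [Finset.prod_congr rfl (fun (r : (Nat.card V).primeFactors) _ => by
      haveI := Fact.mk (Nat.prime_of_mem_primeFactors r.2)
      exact Sylow.card_eq_multiplicity (R r))]
    rw [Finset.prod_coe_sort (Nat.card V).primeFactors (fun r => r ^ (Nat.card V).factorization r)]
    exact Nat.prod_primeFactors_pow_factorization (Nat.card_pos (α := V)).ne'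
  refine le_of_le_of_eq ?_ (show (∏ r : (Nat.card V).primeFactors, Nat.card (R r : Subgroup V)) ^ Nat.card A *
      _ = Nat.card V ^ Nat.card A * _ by rw [← hV])
  rw [← Finset.prod_pow, ← Finset.prod_mul_distrib]
  refine Finset.prod_le_prod' fun r _ => ?_
  haveI := Fact.mk (Nat.prime_of_mem_primeFactors r.2)
  have h := bound_of_isPGroup hA _ (R r : Subgroup V) rfl (R r).2
    (hco.coprime_dvd_left (Subgroup.card_subgroup_dvd_card _)) (resAut φ (R r : Subgroup V) (hR r))
  rw [Bound, finprod_eq_prod_of_fintype] at h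
  exact h

end Cfsg.Agent.Lib.SubnormSet.Average
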