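import Mathlib
import Cfsg.Agent.Lib.Cores.Basic

set_option autoImplicit false
set_option linter.unusedSectionVars false

/-!
The number of `x` with `x⁻¹ H x ≤ P`, computed along a normal series with `p`- and `p'`-factors.
-/

open scoped Pointwise

namespace Cfsg.Agent.Lib.SubnormSet

universe u
variable {G : Type u} [Group G] [Finite G] {p : ℕ} [Fact p.Prime]

/-- The number of `x` conjugating `H` into `K`. -/
noncomputable def intoCount (H K : Subgroup G) : ℕ :=
  Nat.card {x : G // ∀ h ∈ H, x⁻¹ * h * x ∈ K}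

/-- The elements of `L` that `H` centralizes modulo `N`. -/
noncomputable def fixCount (H N L : Subgroup G) : ℕ :=
  Nat.card {u : G // u ∈ L ∧ ∀ h ∈ H, h * u * h⁻¹ * u⁻¹ ∈ N}

theorem card_mul_relIndex' {K L : Subgroup G} (h : K ≤ L) : Nat.card K * K.relIndex L = Nat.card L := by
  have h1 := Subgroup.card_mul_index (K.subgroupOf L)
  rwa [Nat.card_congr (Subgroup.subgroupOfEquivOfLe h).toEquiv] at h1

theorem sup_eq_of_pow (P : Sylow p G) {N L : Subgroup G} [N.Normal] [L.Normal] (hNL : N ≤ L) {m : ℕ}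
    (hm : N.relIndex L = p ^ m) : (P : Subgroup G) ⊔ L = (P : Subgroup G) ⊔ N := by
  refine le_antisymm (sup_le le_sup_left ?_) (sup_le_sup_left hNL _)
  have hL : IsPGroup p (L.map (QuotientGroup.mk' N)) := by
    rintro ⟨_, u, hu, rfl⟩
    refine ⟨m, Subtype.ext ?_⟩
    have : (⟨u, hu⟩ : L) ^ (N.subgroupOf L).index ∈ N.subgroupOf L := Subgroup.pow_index_mem _ _
    rw [show (N.subgroupOf L).index = p ^ m from hm, Subgroup.mem_subgroupOf] at this
    simpa [← QuotientGroup.mk_pow] using this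
  haveI : (L.map (QuotientGroup.mk' N)).Normal :=
    Subgroup.Normal.map inferInstance _ (QuotientGroup.mk'_surjective N)
  have hle := hL.le_sylow_of_normal (P.mapSurjective (QuotientGroup.mk'_surjective N))
  rw [Sylow.coe_mapSurjective, Subgroup.map_le_map_iff, QuotientGroup.ker_mk'] at hle
  exact hle

theorem mem_of_mem_sup_of_mem (P : Sylow p G) {N L : Subgroup G} [N.Normal] [L.Normal] (hNL : N ≤ L)
    (hco : (N.relIndex L).Coprime p) {x : G} (hx : x ∈ (P : Subgroup G) ⊔ N) (hxL : x ∈ L) : x ∈ N := by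
  obtain ⟨a, ha, b, hb, rfl⟩ := Subgroup.mem_sup_of_normal_right.1 hx
  have haL : a ∈ L := by simpa using mul_mem hxL (L.inv_mem (hNL hb))
  refine mul_mem ?_ hb
  obtain ⟨k, hk⟩ := IsPGroup.iff_orderOf.1 P.2 ⟨a, ha⟩
  have h1 : orderOf (((⟨a, haL⟩ : L) : L ⧸ N.subgroupOf L)) ∣ p ^ k := by
    rw [← hk, Subgroup.orderOf_mk]
    exact (orderOf_map_dvd (QuotientGroup.mk' (N.subgroupOf L)) ⟨a, haL⟩).trans (Subgroup.orderOf_mk a haL).dvd
  have h2 : orderOf (((⟨a, haL⟩ : L) : L ⧸ N.subgroupOf L)) ∣ N.relIndex L := orderOf_dvd_natCard _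
  have h3 := Nat.eq_one_of_dvd_coprimes (hco.symm.pow_left k) h1 h2
  rw [orderOf_eq_one_iff, QuotientGroup.eq_one_iff] at h3
  exact h3

theorem exists_conj_into (P : Sylow p G) {L : Subgroup G} [L.Normal] {H : Subgroup G} (hH : IsPGroup p H)
    {x : G} (hx : ∀ h ∈ H, x⁻¹ * h * x ∈ (P : Subgroup G) ⊔ L) :
    ∃ l ∈ L, ∀ h ∈ H, (x * l)⁻¹ * h * (x * l) ∈ (P : Subgroup G) := by
  set K := (P : Subgroup G) ⊔ L with hK
  set H' := H.map (MulAut.conj x⁻¹).toMonoidHom with hH'
  have hH'K : H' ≤ K := by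
    rintro _ ⟨h, hh, rfl⟩
    simpa using hx h hh
  obtain ⟨R, hR⟩ := ((hH.map _).of_equiv (Subgroup.subgroupOfEquivOfLe hH'K).symm).exists_le_sylow
  obtain ⟨y, hy⟩ := MulAction.exists_smul_eq K (P.subtype (le_sup_left : (P : Subgroup G) ≤ K)) R
  obtain ⟨l, hl, a, ha, hla⟩ := Subgroup.mem_sup_of_normal_left.1
    (show (y : G) ∈ L ⊔ (P : Subgroup G) by rw [sup_comm]; exact y.2)
  refine ⟨l, hl, fun h hh => ?_⟩
  have hmem : (⟨x⁻¹ * h * x, hx h hh⟩ : K) ∈ (R : Subgroup K) :=
    hR (show x⁻¹ * h * x ∈ H' from ⟨h, hh, by simp⟩)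
  rw [← hy, Sylow.coe_subgroup_smul, Subgroup.mem_pointwise_smul_iff_inv_smul_mem, ← map_inv,
    MulAut.smul_def, MulAut.conj_apply, inv_inv, Sylow.coe_subtype, Subgroup.mem_subgroupOf] at hmem
  push_cast at hmem
  rw [← hla] at hmem
  have := mul_mem (mul_mem ha hmem) ((P : Subgroup G).inv_mem ha)
  simpa [mul_assoc] using this

theorem intoCount_step (P : Sylow p G) {H : Subgroup G} (hH : IsPGroup p H) {N L : Subgroup G}
    [N.Normal] [L.Normal] (hNL : N ≤ L) (hco : (N.relIndex L).Coprime p) :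
    intoCount H ((P : Subgroup G) ⊔ N) * Nat.card L =
      intoCount H ((P : Subgroup G) ⊔ L) * fixCount H N L := by
  classical
  haveI := Fintype.ofFinite G
  haveI := Fintype.ofFinite (G ⧸ L)
  have hinv : ∀ x : G, ∀ l ∈ L, (∀ h ∈ H, x⁻¹ * h * x ∈ (P : Subgroup G) ⊔ L) →
      ∀ h ∈ H, (x * l)⁻¹ * h * (x * l) ∈ (P : Subgroup G) ⊔ L := by
    intro x l hl hx h hh
    have hl' : l ∈ (P : Subgroup G) ⊔ L := Subgroup.mem_sup_right hl
    simpa [mul_assoc] using mul_mem (mul_mem (inv_mem hl') (hx h hh)) hl'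
  let good : Finset (G ⧸ L) := Finset.univ.filter
    (fun c => ∀ h ∈ H, c.out⁻¹ * h * c.out ∈ (P : Subgroup G) ⊔ L)
  have hgood : ∀ x : G, ((∀ h ∈ H, x⁻¹ * h * x ∈ (P : Subgroup G) ⊔ L) ↔ (x : G ⧸ L) ∈ good) := by
    intro x
    obtain ⟨⟨l, hl⟩, hl'⟩ := QuotientGroup.mk_out_eq_mul L x
    simp only [good, Finset.mem_filter, Finset.mem_univ, true_and, hl']
    refine ⟨hinv x l hl, fun h => ?_⟩
    simpa using hinv (x * l) l⁻¹ (L.inv_mem hl) h
  have e1 : intoCount H ((P : Subgroup G) ⊔ L) = good.card * Nat.card L := by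
    rw [intoCount, Nat.card_eq_fintype_card, Fintype.card_subtype,
      Finset.card_eq_sum_card_fiberwise (f := fun x : G => (x : G ⧸ L)) (t := good)
        (fun x hx => (hgood x).1 (Finset.mem_filter.1 hx).2)]
    rw [Finset.sum_congr rfl (fun c hc => ?_), Finset.sum_const, smul_eq_mul]
    rw [Finset.filter_filter, ← Fintype.card_subtype, ← Nat.card_eq_fintype_card]
    refine Nat.card_congr
      { toFun := fun x => ⟨c.out⁻¹ * x.1, ?_⟩
        invFun := fun l => ⟨c.out * l.1, ?_, ?_⟩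
        left_inv := fun x => by simp
        right_inv := fun l => by simp }
    · rw [← QuotientGroup.eq, QuotientGroup.out_eq']; exact x.2.2.symm
    · rw [hgood]
      have he : ((c.out * (l : G) : G) : G ⧸ L) = c := by
        rw [QuotientGroup.mk_mul, QuotientGroup.out_eq', (QuotientGroup.eq_one_iff _).2 l.2, mul_one]
      rw [he]; exact hc
    · rw [QuotientGroup.mk_mul, QuotientGroup.out_eq', (QuotientGroup.eq_one_iff _).2 l.2, mul_one]
  have e2 : intoCount H ((P : Subgroup G) ⊔ N) = good.card * fixCount H N L := by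
    rw [intoCount, Nat.card_eq_fintype_card, Fintype.card_subtype,
      Finset.card_eq_sum_card_fiberwise (f := fun x : G => (x : G ⧸ L)) (t := good)
        (fun x hx => (hgood x).1 fun h hh =>
          sup_le_sup_left hNL _ ((show ∀ h ∈ H, x⁻¹ * h * x ∈ (P : Subgroup G) ⊔ N from (Finset.mem_filter.1 hx).2) h hh))]
    rw [Finset.sum_congr rfl (fun c hc => ?_), Finset.sum_const, smul_eq_mul]
    rw [Finset.filter_filter, ← Fintype.card_subtype, ← Nat.card_eq_fintype_card, fixCount]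
    simp only [good, Finset.mem_filter, Finset.mem_univ, true_and] at hc
    obtain ⟨l, hl, hx0⟩ := exists_conj_into P hH hc
    set x0 := c.out * l with hx0def
    have hc0 : (x0 : G ⧸ L) = c := by
      rw [hx0def, QuotientGroup.mk_mul, QuotientGroup.out_eq', (QuotientGroup.eq_one_iff _).2 hl, mul_one]
    have key : ∀ u ∈ L, ∀ h ∈ H,
        ((u * x0)⁻¹ * h * (u * x0) ∈ (P : Subgroup G) ⊔ N ↔ h * u * h⁻¹ * u⁻¹ ∈ N) := by
      intro u hu h hh
      have hx : x0⁻¹ * h * x0 ∈ (P : Subgroup G) ⊔ N := Subgroup.mem_sup_left (hx0 h hh)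
      have hd : x0⁻¹ * (h⁻¹ * u⁻¹ * h * u) * x0 = (x0⁻¹ * h * x0)⁻¹ * ((u * x0)⁻¹ * h * (u * x0)) := by group
      have hL : x0⁻¹ * (h⁻¹ * u⁻¹ * h * u) * x0 ∈ L := by
        have h1 : h⁻¹ * u⁻¹ * h * u ∈ L := mul_mem
          (by simpa using Subgroup.Normal.conj_mem ‹L.Normal› u⁻¹ (L.inv_mem hu) h⁻¹) hu
        simpa using Subgroup.Normal.conj_mem ‹L.Normal› _ h1 x0⁻¹
      constructor
      · intro hm
        have hN : x0⁻¹ * (h⁻¹ * u⁻¹ * h * u) * x0 ∈ N :=
          mem_of_mem_sup_of_mem P hNL hco (hd ▸ mul_mem (inv_mem hx) hm) hL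
        have h2 := Subgroup.Normal.conj_mem ‹N.Normal› _ hN (u * h * x0)
        convert h2 using 1
        group
      · intro hm
        have hN : x0⁻¹ * (h⁻¹ * u⁻¹ * h * u) * x0 ∈ N := by
          have h2 := Subgroup.Normal.conj_mem ‹N.Normal› _ hm (x0⁻¹ * h⁻¹ * u⁻¹)
          convert h2 using 1
          group
        have h3 := mul_mem hx (Subgroup.mem_sup_right (S := (P : Subgroup G)) hN)
        rwa [hd, mul_inv_cancel_left] at h3
    refine Nat.card_congr
      { toFun := fun x => ⟨x.1 * x0⁻¹, ?_, ?_⟩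
        invFun := fun u => ⟨u.1 * x0, ?_, ?_⟩
        left_inv := fun x => by simp
        right_inv := fun u => by simp }
    · have h1 : x0⁻¹ * x.1 ∈ L := QuotientGroup.eq.1 (hc0.trans x.2.2.symm)
      have h2 := Subgroup.Normal.conj_mem ‹L.Normal› _ h1 x0
      simpa [mul_assoc] using h2
    · intro h hh
      have h1 : x0⁻¹ * x.1 ∈ L := QuotientGroup.eq.1 (hc0.trans x.2.2.symm)
      have h2 : x.1 * x0⁻¹ ∈ L := by
        simpa [mul_assoc] using Subgroup.Normal.conj_mem ‹L.Normal› _ h1 x0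
      exact (key _ h2 h hh).1 (by simpa using x.2.1 h hh)
    · intro h hh
      exact (key u.1 u.2.1 h hh).2 (u.2.2 h hh)
    · rw [QuotientGroup.mk_mul, (QuotientGroup.eq_one_iff _).2 u.2.1, one_mul, hc0]
  rw [e1, e2]; ring

theorem card_sup_step (P : Sylow p G) {N L : Subgroup G} [N.Normal] [L.Normal] (hNL : N ≤ L)
    (hco : (N.relIndex L).Coprime p) :
    Nat.card ↥((P : Subgroup G) ⊔ L) = Nat.card ↥((P : Subgroup G) ⊔ N) * N.relIndex L := by
  have h : ∀ (M : Subgroup G) [M.Normal],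
      Nat.card ↥((P : Subgroup G) ⊔ M) * Nat.card ↥((P : Subgroup G) ⊓ M) =
        Nat.card (P : Subgroup G) * Nat.card M := by
    intro M _
    have e1 : M.relIndex ((P : Subgroup G) ⊔ M) = M.relIndex (P : Subgroup G) := Subgroup.relIndex_sup_right ..
    have e2 : Nat.card M * M.relIndex ((P : Subgroup G) ⊔ M) = Nat.card ↥((P : Subgroup G) ⊔ M) :=
      card_mul_relIndex' le_sup_right
    have e3 : Nat.card ↥((P : Subgroup G) ⊓ M) * M.relIndex (P : Subgroup G) = Nat.card (P : Subgroup G) := by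
      rw [← Subgroup.inf_relIndex_left]; exact card_mul_relIndex' inf_le_left
    rw [← e2, e1, ← e3]; ring
  have hinf : (P : Subgroup G) ⊓ L = (P : Subgroup G) ⊓ N := le_antisymm
    (fun x hx => ⟨hx.1, mem_of_mem_sup_of_mem P hNL hco (Subgroup.mem_sup_left hx.1) hx.2⟩)
    (inf_le_inf_left _ hNL)
  have h1 := h N
  have h2 := h L
  rw [hinf, ← card_mul_relIndex' hNL] at h2
  refine Nat.eq_of_mul_eq_mul_right (Nat.card_pos (α := ↥((P : Subgroup G) ⊓ N))) ?_
  rw [h2, mul_right_comm, h1]; ring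

theorem card_dvd_fixCount (H : Subgroup G) {N L : Subgroup G} [N.Normal] (hNL : N ≤ L) :
    Nat.card N ∣ fixCount H N L := by
  let U : Subgroup G :=
    { carrier := {u | u ∈ L ∧ ∀ h ∈ H, ((h : G) : G ⧸ N) * (u : G ⧸ N) = (u : G ⧸ N) * (h : G ⧸ N)}
      mul_mem' := fun ⟨ha, ha'⟩ ⟨hb, hb'⟩ => ⟨mul_mem ha hb, fun h hh => by
        rw [QuotientGroup.mk_mul, ← mul_assoc, ha' h hh, mul_assoc, hb' h hh, mul_assoc]⟩
      one_mem' := ⟨one_mem L, fun h hh => by simp⟩
      inv_mem' := fun {a} ⟨ha, ha'⟩ => ⟨L.inv_mem ha, fun h hh => by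
        rw [QuotientGroup.mk_inv, eq_inv_mul_iff_mul_eq, ← mul_assoc, ← ha' h hh, mul_assoc, mul_inv_cancel, mul_one]⟩ }
  have hU : Nat.card U = fixCount H N L := by
    refine Nat.card_congr (Equiv.subtypeEquivRight fun u => ?_)
    refine and_congr_right fun _ => forall₂_congr fun h hh => ?_
    rw [← QuotientGroup.eq_one_iff, QuotientGroup.mk_mul, QuotientGroup.mk_mul, QuotientGroup.mk_mul,
      QuotientGroup.mk_inv, QuotientGroup.mk_inv, mul_inv_eq_one, mul_inv_eq_iff_eq_mul]
  rw [← hU]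
  refine Subgroup.card_dvd_of_le fun x hx => ⟨hNL hx, fun h hh => ?_⟩
  simp [(QuotientGroup.eq_one_iff x).2 hx]

theorem intoCount_chain (P : Sylow p G) {H : Subgroup G} (hH : IsPGroup p H) (n : ℕ)
    (M : Fin (n + 1) → Subgroup G) (h0 : M 0 = ⊥) (hn : M (Fin.last n) = ⊤) (hmono : Monotone M)
    (hnormal : ∀ i, (M i).Normal)
    (hfac : ∀ i : Fin n, (∃ m : ℕ, (M i.castSucc).relIndex (M i.succ) = p ^ m) ∨
      ((M i.castSucc).relIndex (M i.succ)).Coprime p) :
    intoCount H (P : Subgroup G) = Nat.card (P : Subgroup G) *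
      ∏ i : Fin n, (if ((M i.castSucc).relIndex (M i.succ)).Coprime p then
        fixCount H (M i.castSucc) (M i.succ) / Nat.card (M i.castSucc) else 1) := by
  classical
  set c : Fin n → ℕ := fun i => if ((M i.castSucc).relIndex (M i.succ)).Coprime p then
    fixCount H (M i.castSucc) (M i.succ) / Nat.card (M i.castSucc) else 1 with hc
  have key : ∀ j : Fin (n + 1), intoCount H ((P : Subgroup G) ⊔ M j) =
      Nat.card ↥((P : Subgroup G) ⊔ M j) * ∏ i ∈ Finset.univ.filter (fun i : Fin n => j ≤ i.castSucc), c i := by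
    intro j
    induction j using Fin.reverseInduction with
    | last =>
      rw [hn, sup_top_eq, Finset.filter_eq_empty_iff.2 (fun {i} _ => (Fin.castSucc_lt_last i).not_ge)]
      simp [intoCount]
    | cast i ih =>
      haveI := hnormal i.castSucc
      haveI := hnormal i.succ
      have hle : M i.castSucc ≤ M i.succ := hmono Fin.castSucc_lt_succ.le
      have hsplit : Finset.univ.filter (fun j : Fin n => i.castSucc ≤ j.castSucc) =
          insert i (Finset.univ.filter (fun j : Fin n => i.succ ≤ j.castSucc)) := by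
        ext j
        simp only [Finset.mem_filter, Finset.mem_univ, true_and, Finset.mem_insert, Fin.le_def,
          Fin.val_castSucc, Fin.val_succ, Fin.ext_iff]
        omega
      rw [hsplit, Finset.prod_insert (by simp [Fin.le_def])]
      by_cases hco : ((M i.castSucc).relIndex (M i.succ)).Coprime p
      · have h1 := intoCount_step P hH hle hco
        rw [ih, card_sup_step P hle hco] at h1
        obtain ⟨k, hk⟩ := card_dvd_fixCount H (N := M i.castSucc) (L := M i.succ) hle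
        rw [hk, ← card_mul_relIndex' hle] at h1
        have hci : c i = k := by
          simp only [hc, if_pos hco, hk, Nat.mul_div_cancel_left _ Nat.card_pos]
        rw [hci]
        have hpos : 0 < Nat.card (M i.castSucc) * (M i.castSucc).relIndex (M i.succ) := by
          rw [card_mul_relIndex' hle]; exact Nat.card_pos
        refine Nat.eq_of_mul_eq_mul_right hpos (h1.trans ?_)
        ring
      · have hci : c i = 1 := by simp only [hc, if_neg hco]
        obtain ⟨m, hm⟩ := (hfac i).resolve_right hco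
        rw [hci, one_mul, ← sup_eq_of_pow P hle hm, ih]
  have h := key 0
  rw [h0, sup_bot_eq] at h
  rw [h]
  congr 1
  exact Finset.prod_congr (Finset.filter_true_of_mem fun i _ => Fin.zero_le _) fun _ _ => rfl

end Cfsg.Agent.Lib.SubnormSet
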