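import Cfsg.Agent.Lib.SubnormSet.Basic
import Cfsg.Agent.Lib.SubnormSet.Chain

set_option autoImplicit false
set_option linter.unusedSectionVars false

/-! `#{x : x⁻¹ H x ≤ P} = #{Sylow ≥ H}·|N(P)|`. -/

open scoped Pointwise

namespace Cfsg.Agent.Lib.SubnormSet

universe u
variable {G : Type u} [Group G] [Finite G] {p : ℕ} [Fact p.Prime]

theorem intoCount_eq (H : Subgroup G) (P : Sylow p G) :
    intoCount H (P : Subgroup G) = Nat.card {Q : Sylow p G // H ≤ (Q : Subgroup G)} *
      Nat.card (Subgroup.normalizer ((P : Subgroup G) : Set G)) := by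
  classical
  haveI := Fintype.ofFinite G
  haveI := Fintype.ofFinite (Sylow p G)
  have hmem : ∀ (x : G), (∀ h ∈ H, x⁻¹ * h * x ∈ (P : Subgroup G)) ↔
      H ≤ ((x • P : Sylow p G) : Subgroup G) := by
    intro x
    refine forall_congr' fun h => imp_congr_right fun _ => ?_
    rw [Sylow.coe_subgroup_smul, Subgroup.mem_pointwise_smul_iff_inv_smul_mem, MulAut.smul_def,
      MulAut.conj_inv_apply]
  rw [intoCount, Nat.card_congr (Equiv.subtypeEquivRight hmem), Nat.card_eq_fintype_card,
    Fintype.card_subtype, Nat.card_eq_fintype_card, Fintype.card_subtype,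
    Finset.card_eq_sum_card_fiberwise (f := fun x : G => x • P)
      (t := Finset.univ.filter fun Q : Sylow p G => H ≤ (Q : Subgroup G))
      (fun x hx => Finset.mem_filter.2 ⟨Finset.mem_univ _,
        (Finset.mem_filter.1 hx).2⟩)]
  rw [Finset.sum_congr rfl (fun Q hQ => ?_), Finset.sum_const, smul_eq_mul]
  obtain ⟨c, hc⟩ := MulAction.exists_smul_eq G P Q
  rw [Finset.filter_filter, ← Fintype.card_subtype, ← Nat.card_eq_fintype_card]
  have hmemN : ∀ n : G, n ∈ Subgroup.normalizer ((P : Subgroup G) : Set G) ↔ n • P = P := fun n =>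
    (Sylow.smul_eq_iff_mem_normalizer (P := P)).symm
  refine Nat.card_congr
    { toFun := fun x => ⟨c⁻¹ * x.1, ?_⟩
      invFun := fun n => ⟨c * n.1, ?_, ?_⟩
      left_inv := fun x => by simp
      right_inv := fun n => by simp }
  · rw [hmemN, mul_smul, x.2.2, ← hc, inv_smul_smul]
  · show H ≤ (((c * n.1) • P : Sylow p G) : Subgroup G)
    rw [mul_smul, (hmemN n.1).1 n.2, hc]
    exact (Finset.mem_filter.1 hQ).2
  · rw [mul_smul, (hmemN n.1).1 n.2, hc]

theorem card_inS_eq_intoCount {H : Subgroup G} (hH : IsPGroup p H) (P : Sylow p G) :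
    Nat.card {g : G // InS p H g} = intoCount H (P : Subgroup G) := by
  rw [card_inS_eq hH P, intoCount_eq H P]

end Cfsg.Agent.Lib.SubnormSet
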